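import Cfsg.Agent.Lib.O8S.Def

/-! # S3268: facts about `Ω₈⁺(2)`, the long ones (generated by `tools/o8/mkfo.py`) -/

set_option autoImplicit false
set_option maxRecDepth 10000

namespace Cfsg.Lib.O8S

open Cfsg.Lib.Calc Cfsg.Lib.Grp Cfsg.Lib.T2 Cfsg.Lib.T3 Cfsg.Lib.A16 Cfsg.Lib.Mathieu Cfsg.Lib.BG Subgroup

variable {G : Type*} [Group G] {γ : ℕ → G} {φ : G}

namespace F0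

variable (f : F0 γ)
include f

theorem cenl : ∀ u ∈ 𝐋, u * (γ 7 * γ 8 * γ 9) = γ 7 * γ 8 * γ 9 * u → u ∈ K γ 15 :=
  f.gf.tr (φ := .all 1 40 [(.mul (.mul (.l 7) (.l 8)) (.l 9), .mul (.mul (.l 7) (.l 8)) (.l 9))] (.mem 15 (.l 40))) (by decide +kernel)

theorem tri : ∀ u ∈ K γ 12, nu γ u = 112 → nu γ (γ 7 * γ 8 * γ 9 * u) ≠ 112 → u ∉ 𝐙₃ → ∀ v ∈ K γ 12, v * u = u * v → nu γ v = 112 → nu γ (γ 7 * γ 8 * γ 9 * v) ≠ 112 → v ∉ 𝐙₃ → nu γ (u * v) = 112 → nu γ (γ 7 * γ 8 * γ 9 * (u * v)) ≠ 112 → u * v ∈ 𝐙₃ :=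
  f.gx.tx (φ := .all 12 40 [] (.imp (.nu (.l 40) 112) (.imp (.not (.nu (.mul (.mul (.mul (.l 7) (.l 8)) (.l 9)) (.l 40)) 112)) (.imp (.fm (.not (.mem 10 (.l 40)))) (.all 12 41 [(.l 40, .l 40)] (.imp (.nu (.l 41) 112) (.imp (.not (.nu (.mul (.mul (.mul (.l 7) (.l 8)) (.l 9)) (.l 41)) 112)) (.imp (.fm (.not (.mem 10 (.l 41)))) (.imp (.nu (.mul (.l 40) (.l 41)) 112) (.imp (.not (.nu (.mul (.mul (.mul (.l 7) (.l 8)) (.l 9)) (.mul (.l 40) (.l 41))) 112)) (.fm (.mem 10 (.mul (.l 40) (.l 41)))))))))))))) (by decide +kernel)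

theorem out1 [Finite G] (a : Gr γ φ 𝛕) : ∀ u ∈ 𝐔, u * φ * u = φ → γ 0 * (u * φ) * (γ 0)⁻¹ * φ⁻¹ ∈ K γ 27 ∨ γ 2 * (u * φ) * (γ 2)⁻¹ * φ⁻¹ ∈ K γ 27 ∨ γ 5 * (u * φ) * (γ 5)⁻¹ * φ⁻¹ ∈ K γ 27 ∨ γ 8 * (u * φ) * (γ 8)⁻¹ * φ⁻¹ ∈ K γ 27 ∨ γ 2 * γ 5 * (u * φ) * (γ 2 * γ 5)⁻¹ * φ⁻¹ ∈ K γ 27 ∨ γ 2 * γ 8 * (u * φ) * (γ 2 * γ 8)⁻¹ * φ⁻¹ ∈ K γ 27 ∨ γ 5 * γ 8 * (u * φ) * (γ 5 * γ 8)⁻¹ * φ⁻¹ ∈ K γ 27 ∨ γ 2 * γ 5 * γ 8 * (u * φ) * (γ 2 * γ 5 * γ 8)⁻¹ * φ⁻¹ ∈ K γ 27 :=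
  f.txτ a (ψ := .fm (.all 2 40 [] (.imp (.eq (.mul (.mul (.l 40) (.l 25)) (.l 40)) (.l 25)) (.or (.mem 27 (.mul (.mul (.mul (.l 0) (.mul (.l 40) (.l 25))) (.inv (.l 0))) (.inv (.l 25)))) (.or (.mem 27 (.mul (.mul (.mul (.l 2) (.mul (.l 40) (.l 25))) (.inv (.l 2))) (.inv (.l 25)))) (.or (.mem 27 (.mul (.mul (.mul (.l 5) (.mul (.l 40) (.l 25))) (.inv (.l 5))) (.inv (.l 25)))) (.or (.mem 27 (.mul (.mul (.mul (.l 8) (.mul (.l 40) (.l 25))) (.inv (.l 8))) (.inv (.l 25)))) (.or (.mem 27 (.mul (.mul (.mul (.mul (.l 2) (.l 5)) (.mul (.l 40) (.l 25))) (.inv (.mul (.l 2) (.l 5)))) (.inv (.l 25)))) (.or (.mem 27 (.mul (.mul (.mul (.mul (.l 2) (.l 8)) (.mul (.l 40) (.l 25))) (.inv (.mul (.l 2) (.l 8)))) (.inv (.l 25)))) (.or (.mem 27 (.mul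 (.mul (.mul (.mul (.l 5) (.l 8)) (.mul (.l 40) (.l 25))) (.inv (.mul (.l 5) (.l 8)))) (.inv (.l 25)))) (.mem 27 (.mul (.mul (.mul (.mul (.mul (.l 2) (.l 5)) (.l 8)) (.mul (.l 40) (.l 25))) (.inv (.mul (.mul (.l 2) (.l 5)) (.l 8)))) (.inv (.l 25)))))))))))))) (by decide +kernel)

theorem out2 : ∀ u ∈ K γ 27, u * u = 1 → u = 1 ∨ u = 𝐳 ∨ (∃ v ∈ K γ 27, v * u = 𝐜 * v ∧ True) ∨ (∃ v ∈ K γ 27, v * u = 𝐩 * v ∧ True) ∨ (∃ v ∈ K γ 27, v * u = γ 7 * v ∧ True) ∨ (∃ v ∈ K γ 27, v * u = γ 4 * v ∧ True) ∨ (∃ v ∈ K γ 27, v * u = γ 1 * v ∧ True) ∨ (∃ v ∈ K γ 27, v * u = γ 4 * 𝐩 * v ∧ True) ∨ (∃ v ∈ K γ 27, v * u = 𝐜 * γ 7 * v ∧ True) ∨ (∃ v ∈ K γ 27, v * u = γ 1 * 𝐳 * v ∧ True) :=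
  f.gf.tr (φ := .all 27 40 [] (.imp (.one (.mul (.l 40) (.l 40))) (.or (.one (.l 40)) (.or (.eq (.l 40) (.l 12)) (.or (.ex 27 41 [(.l 40, .l 10)] (.tt)) (.or (.ex 27 41 [(.l 40, .l 11)] (.tt)) (.or (.ex 27 41 [(.l 40, .l 7)] (.tt)) (.or (.ex 27 41 [(.l 40, .l 4)] (.tt)) (.or (.ex 27 41 [(.l 40, .l 1)] (.tt)) (.or (.ex 27 41 [(.l 40, .mul (.l 4) (.l 11))] (.tt)) (.or (.ex 27 41 [(.l 40, .mul (.l 10) (.l 7))] (.tt)) (.ex 27 41 [(.l 40, .mul (.l 1) (.l 12))] (.tt))))))))))))) (by decide +kernel)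

theorem out3 [Finite G] (a : Gr γ φ 𝛕) : γ 7 * γ 19 * γ 7 * γ 1 * γ 13 * γ 1 * (𝐜 * φ) = 𝐳 * φ * (γ 7 * γ 19 * γ 7 * γ 1 * γ 13 * γ 1) ∧ 𝐜 * γ 22 * 𝐜 * (𝐩 * φ) = 𝐳 * φ * (𝐜 * γ 22 * 𝐜) ∧ 𝐜 * γ 22 * 𝐜 * γ 1 * γ 13 * γ 1 * (γ 7 * φ) = 𝐳 * φ * (𝐜 * γ 22 * 𝐜 * γ 1 * γ 13 * γ 1) ∧ γ 7 * γ 19 * γ 7 * (γ 4 * φ) = 𝐳 * φ * (γ 7 * γ 19 * γ 7) ∧ 𝐜 * γ 22 * 𝐜 * γ 7 * γ 19 * γ 7 * (γ 1 * φ) = 𝐳 * φ * (𝐜 * γ 22 * 𝐜 * γ 7 * γ 19 * γ 7) ∧ 𝐜 * γ 22 * 𝐜 * γ 14 * γ 15 * γ 8 * (γ 4 * 𝐩 * φ) = 𝐳 * φ * (𝐜 * γ 22 * 𝐜 * γ 14 * γ 15 * γ 8) ∧ 𝐜 * γ 22 * 𝐜 * γ 14 * γ 15 * γ 1 * γ 13 * γ 1 * γ 5 * (𝐜 * γ 7 * φ) = 𝐳 * φ * (𝐜 * γ 22 * 𝐜 * γ 14 * γ 15 * γ 1 * γ 13 * γ 1 * γ 5) ∧ 𝐜 * γ 22 * 𝐜 * γ 14 * γ 15 * 𝐜 * γ 22 * 𝐜 * γ 8 * (γ 1 * 𝐳 * φ) = 𝐳 * φ * (𝐜 * γ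 22 * 𝐜 * γ 14 * γ 15 * 𝐜 * γ 22 * 𝐜 * γ 8) :=
  f.txτ a (ψ := .fm (.and (.eq (.mul (.mul (.mul (.mul (.mul (.mul (.l 7) (.l 19)) (.l 7)) (.l 1)) (.l 13)) (.l 1)) (.mul (.l 10) (.l 25))) (.mul (.mul (.l 12) (.l 25)) (.mul (.mul (.mul (.mul (.mul (.l 7) (.l 19)) (.l 7)) (.l 1)) (.l 13)) (.l 1)))) (.and (.eq (.mul (.mul (.mul (.l 10) (.l 22)) (.l 10)) (.mul (.l 11) (.l 25))) (.mul (.mul (.l 12) (.l 25)) (.mul (.mul (.l 10) (.l 22)) (.l 10)))) (.and (.eq (.mul (.mul (.mul (.mul (.mul (.mul (.l 10) (.l 22)) (.l 10)) (.l 1)) (.l 13)) (.l 1)) (.mul (.l 7) (.l 25))) (.mul (.mul (.l 12) (.l 25)) (.mul (.mul (.mul (.mul (.mul (.l 10) (.l 22)) (.l 10)) (.l 1)) (.l 13)) (.l 1)))) (.and (.eq (.mul (.mul (.mul (.l 7) (.l 19)) (.l 7)) (.mul (.l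 4) (.l 25))) (.mul (.mul (.l 12) (.l 25)) (.mul (.mul (.l 7) (.l 19)) (.l 7)))) (.and (.eq (.mul (.mul (.mul (.mul (.mul (.mul (.l 10) (.l 22)) (.l 10)) (.l 7)) (.l 19)) (.l 7)) (.mul (.l 1) (.l 25))) (.mul (.mul (.l 12) (.l 25)) (.mul (.mul (.mul (.mul (.mul (.l 10) (.l 22)) (.l 10)) (.l 7)) (.l 19)) (.l 7)))) (.and (.eq (.mul (.mul (.mul (.mul (.mul (.mul (.l 10) (.l 22)) (.l 10)) (.l 14)) (.l 15)) (.l 8)) (.mul (.mul (.l 4) (.l 11)) (.l 25))) (.mul (.mul (.l 12) (.l 25)) (.mul (.mul (.mul (.mul (.mul (.l 10) (.l 22)) (.l 10)) (.l 14)) (.l 15)) (.l 8)))) (.and (.eq (.mul (.mul (.mul (.mul (.mul (.mul (.mul (.mul (.mul (.l 10) (.l 22)) (.l 10)) (.l 14)) (.l 15)) (.l 1)) (.l 13)) (.l 1)) (.l 5)) (.mul (.mul (.l 10) (.l 7)) (.l 25)))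 (.mul (.mul (.l 12) (.l 25)) (.mul (.mul (.mul (.mul (.mul (.mul (.mul (.mul (.l 10) (.l 22)) (.l 10)) (.l 14)) (.l 15)) (.l 1)) (.l 13)) (.l 1)) (.l 5)))) (.eq (.mul (.mul (.mul (.mul (.mul (.mul (.mul (.mul (.mul (.l 10) (.l 22)) (.l 10)) (.l 14)) (.l 15)) (.l 10)) (.l 22)) (.l 10)) (.l 8)) (.mul (.mul (.l 1) (.l 12)) (.l 25))) (.mul (.mul (.l 12) (.l 25)) (.mul (.mul (.mul (.mul (.mul (.mul (.mul (.mul (.l 10) (.l 22)) (.l 10)) (.l 14)) (.l 15)) (.l 10)) (.l 22)) (.l 10)) (.l 8)))))))))))) (by decide +kernel)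

theorem alpha [Finite G] (a : Gr γ φ 𝛕) : ∀ u ∈ 𝐔, nu γ u = 96 → u ∈ 𝐕 ∨ u * γ 7 ∈ 𝐙₂ ∨ u * (φ * γ 1 * 𝐜 * u * (φ * γ 1 * 𝐜)⁻¹) ≠ φ * γ 1 * 𝐜 * u * (φ * γ 1 * 𝐜)⁻¹ * u ∨ u * (γ 1 * γ 2 * γ 3 * u * (γ 1 * γ 2 * γ 3)⁻¹) ≠ γ 1 * γ 2 * γ 3 * u * (γ 1 * γ 2 * γ 3)⁻¹ * u :=
  f.txτ a (ψ := .all 2 40 [] (.imp (.nu (.l 40) 96) (.fm (.or (.mem 4 (.l 40)) (.or (.mem 8 (.mul (.l 40) (.l 7))) (.or (.not (.eq (.mul (.l 40) (.mul (.mul (.mul (.mul (.l 25) (.l 1)) (.l 10)) (.l 40)) (.inv (.mul (.mul (.l 25) (.l 1)) (.l 10))))) (.mul (.mul (.mul (.mul (.mul (.l 25) (.l 1)) (.l 10)) (.l 40)) (.inv (.mul (.mul (.l 25) (.l 1)) (.l 10)))) (.l 40)))) (.not (.eq (.mul (.l 40) (.mul (.mul (.mul (.mul (.l 1) (.l 2)) (.l 3)) (.l 40)) (.inv (.mul (.mul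 (.l 1) (.l 2)) (.l 3))))) (.mul (.mul (.mul (.mul (.mul (.l 1) (.l 2)) (.l 3)) (.l 40)) (.inv (.mul (.mul (.l 1) (.l 2)) (.l 3)))) (.l 40)))))))))) (by decide +kernel)

end F0

end Cfsg.Lib.O8S
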