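import Cfsg.Agent.Lib.O8S.Def

/-! # S3268: facts about `Ω₈⁺(2)` (generated by `tools/o8/mkfo.py`) -/

set_option autoImplicit false
set_option maxRecDepth 10000

namespace Cfsg.Lib.O8S

open Cfsg.Lib.Calc Cfsg.Lib.Grp Cfsg.Lib.T2 Cfsg.Lib.T3 Cfsg.Lib.A16 Cfsg.Lib.Mathieu Cfsg.Lib.BG Subgroup

variable {G : Type*} [Group G] {γ : ℕ → G} {φ : G}

namespace F0

variable (f : F0 γ)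
include f

theorem lv : ∀ u ∈ K γ 14, u * 𝐩 = 𝐩 * u ∨ u * 𝐩 = 𝐩 * 𝐳 * u → u ∈ K γ 16 :=
  f.gf.tr (φ := .all 14 40 [] (.imp (.or (.eq (.mul (.l 40) (.l 11)) (.mul (.l 11) (.l 40))) (.eq (.mul (.l 40) (.l 11)) (.mul (.mul (.l 11) (.l 12)) (.l 40)))) (.mem 16 (.l 40)))) (by decide +kernel)

theorem cQ : ∀ u ∈ 𝐔, u * 𝐜 = 𝐜 * u → u * γ 4 = γ 4 * u → u * γ 5 = γ 5 * u → u * γ 6 = γ 6 * u → u * γ 7 = γ 7 * u → u * γ 8 = γ 8 * u → u * γ 9 = γ 9 * u → u * 𝐩 = 𝐩 * u → u = 1 ∨ u = 𝐳 :=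
  f.gf.tr (φ := .all 2 40 [(.l 10, .l 10), (.l 4, .l 4), (.l 5, .l 5), (.l 6, .l 6), (.l 7, .l 7), (.l 8, .l 8), (.l 9, .l 9), (.l 11, .l 11)] (.or (.one (.l 40)) (.eq (.l 40) (.l 12)))) (by decide +kernel)

theorem cW : ∀ u ∈ 𝐔, u * γ 4 = γ 4 * u → u * γ 8 = γ 8 * u → u * γ 9 = γ 9 * u → u * 𝐩 = 𝐩 * u → u ∈ 𝐕 :=
  f.gf.tr (φ := .all 2 40 [(.l 4, .l 4), (.l 8, .l 8), (.l 9, .l 9), (.l 11, .l 11)] (.mem 4 (.l 40))) (by decide +kernel)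

theorem cw : ∀ u ∈ 𝐐, u * γ 4 = γ 4 * u → u * γ 8 = γ 8 * u → u * γ 9 = γ 9 * u → u * 𝐩 = 𝐩 * u → u ∈ 𝐖 :=
  f.gf.tr (φ := .all 3 40 [(.l 4, .l 4), (.l 8, .l 8), (.l 9, .l 9), (.l 11, .l 11)] (.mem 5 (.l 40))) (by decide +kernel)

theorem cp : ∀ u ∈ 𝐐, u * 𝐩 = 𝐩 * u → u ∈ 𝐐₀ :=
  f.gf.tr (φ := .all 3 40 [(.l 11, .l 11)] (.mem 11 (.l 40))) (by decide +kernel)

theorem cva : ∀ u ∈ 𝐕, u * γ 7 = γ 7 * u → u ∈ 𝐙₃ :=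
  f.gf.tr (φ := .all 4 40 [(.l 7, .l 7)] (.mem 10 (.l 40))) (by decide +kernel)

theorem uc : ∀ u ∈ 𝐔, u * (γ 7 * γ 8 * γ 9) = γ 7 * γ 8 * γ 9 * u → u * 𝐩 = 𝐩 * u → u ∈ K γ 12 :=
  f.gf.tr (φ := .all 2 40 [(.mul (.mul (.l 7) (.l 8)) (.l 9), .mul (.mul (.l 7) (.l 8)) (.l 9)), (.l 11, .l 11)] (.mem 12 (.l 40))) (by decide +kernel)

theorem c3 : ∀ u ∈ 𝐔, u * 𝐜 * u⁻¹ * (𝐜)⁻¹ ∈ 𝐙₃ → u * γ 1 * u⁻¹ * (γ 1)⁻¹ ∈ 𝐙₃ → u * γ 2 * u⁻¹ * (γ 2)⁻¹ ∈ 𝐙₃ → u * γ 3 * u⁻¹ * (γ 3)⁻¹ ∈ 𝐙₃ → u ∈ 𝐐₀ :=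
  f.gf.tr (φ := .all 2 40 [] (.imp (.mem 10 (.mul (.mul (.mul (.l 40) (.l 10)) (.inv (.l 40))) (.inv (.l 10)))) (.imp (.mem 10 (.mul (.mul (.mul (.l 40) (.l 1)) (.inv (.l 40))) (.inv (.l 1)))) (.imp (.mem 10 (.mul (.mul (.mul (.l 40) (.l 2)) (.inv (.l 40))) (.inv (.l 2)))) (.imp (.mem 10 (.mul (.mul (.mul (.l 40) (.l 3)) (.inv (.l 40))) (.inv (.l 3)))) (.mem 11 (.l 40))))))) (by decide +kernel)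

theorem c1 : ∀ u ∈ 𝐐₀, u * 𝐜 * u⁻¹ * (𝐜)⁻¹ ∈ 𝐙₁ → u * γ 1 * u⁻¹ * (γ 1)⁻¹ ∈ 𝐙₁ → u * γ 2 * u⁻¹ * (γ 2)⁻¹ ∈ 𝐙₁ → u * γ 3 * u⁻¹ * (γ 3)⁻¹ ∈ 𝐙₁ → u ∈ 𝐙₂ :=
  f.gf.tr (φ := .all 11 40 [] (.imp (.mem 9 (.mul (.mul (.mul (.l 40) (.l 10)) (.inv (.l 40))) (.inv (.l 10)))) (.imp (.mem 9 (.mul (.mul (.mul (.l 40) (.l 1)) (.inv (.l 40))) (.inv (.l 1)))) (.imp (.mem 9 (.mul (.mul (.mul (.l 40) (.l 2)) (.inv (.l 40))) (.inv (.l 2)))) (.imp (.mem 9 (.mul (.mul (.mul (.l 40) (.l 3)) (.inv (.l 40))) (.inv (.l 3)))) (.mem 8 (.l 40))))))) (by decide +kernel)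

theorem i2 : ∀ u ∈ 𝐐₀, u * γ 1 * u⁻¹ * (γ 1)⁻¹ ∈ K γ 17 ∧ u * γ 2 * u⁻¹ * (γ 2)⁻¹ ∈ K γ 17 ∧ u * γ 3 * u⁻¹ * (γ 3)⁻¹ ∈ K γ 17 ∨ u * γ 1 * u⁻¹ * (γ 1)⁻¹ ∈ K γ 18 ∧ u * γ 2 * u⁻¹ * (γ 2)⁻¹ ∈ K γ 18 ∧ u * γ 3 * u⁻¹ * (γ 3)⁻¹ ∈ K γ 18 → u ∈ 𝐙₃ :=
  f.gf.tr (φ := .all 11 40 [] (.imp (.or (.and (.mem 17 (.mul (.mul (.mul (.l 40) (.l 1)) (.inv (.l 40))) (.inv (.l 1)))) (.and (.mem 17 (.mul (.mul (.mul (.l 40) (.l 2)) (.inv (.l 40))) (.inv (.l 2)))) (.mem 17 (.mul (.mul (.mul (.l 40) (.l 3)) (.inv (.l 40))) (.inv (.l 3)))))) (.and (.mem 18 (.mul (.mul (.mul (.l 40) (.l 1)) (.inv (.l 40))) (.inv (.l 1)))) (.and (.mem 18 (.mul (.mul (.mul (.l 40) (.l 2)) (.inv (.l 40))) (.inv (.l 2)))) (.mem 18 (.mul (.mul (.mul (.l 40) (.l 3))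 (.inv (.l 40))) (.inv (.l 3))))))) (.mem 10 (.l 40)))) (by decide +kernel)

theorem mZ : ∀ u ∈ 𝐙₁, u = 1 ∨ u = 𝐳 :=
  f.gf.tr (φ := .all 9 40 [] (.or (.one (.l 40)) (.eq (.l 40) (.l 12)))) (by decide +kernel)

theorem mZ2 : ∀ u ∈ 𝐙₂, u = 1 ∨ u = 𝐳 ∨ u = 𝐩 ∨ u = 𝐩 * 𝐳 :=
  f.gf.tr (φ := .all 8 40 [] (.or (.one (.l 40)) (.or (.eq (.l 40) (.l 12)) (.or (.eq (.l 40) (.l 11)) (.eq (.l 40) (.mul (.l 11) (.l 12))))))) (by decide +kernel)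

theorem mX : ∀ u ∈ K γ 16, u = 1 ∨ u = γ 1 ∨ u = γ 2 ∨ u = γ 3 ∨ u = γ 1 * γ 2 ∨ u = γ 1 * γ 3 ∨ u = γ 2 * γ 3 ∨ u = γ 1 * γ 2 * γ 3 :=
  f.gf.tr (φ := .all 16 40 [] (.or (.one (.l 40)) (.or (.eq (.l 40) (.l 1)) (.or (.eq (.l 40) (.l 2)) (.or (.eq (.l 40) (.l 3)) (.or (.eq (.l 40) (.mul (.l 1) (.l 2))) (.or (.eq (.l 40) (.mul (.l 1) (.l 3))) (.or (.eq (.l 40) (.mul (.l 2) (.l 3))) (.eq (.l 40) (.mul (.mul (.l 1) (.l 2)) (.l 3))))))))))) (by decide +kernel)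

theorem z3l : ∀ u ∈ 𝐙₃, nu γ u = 112 → γ 7 * γ 8 * γ 9 * u ∈ 𝐙₂ :=
  f.gx.tx (φ := .all 10 40 [] (.imp (.nu (.l 40) 112) (.fm (.mem 8 (.mul (.mul (.mul (.l 7) (.l 8)) (.l 9)) (.l 40)))))) (by decide +kernel)

theorem nuV : ∀ u ∈ 𝐕, u = 1 ∨ nu γ u = 96 ∨ nu γ u = 88 :=
  f.gx.tx (φ := .all 4 40 [] (.or (.fm (.one (.l 40))) (.or (.nu (.l 40) 96) (.nu (.l 40) 88)))) (by decide +kernel)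

theorem a1 : ∀ u ∈ 𝐐, nu γ u = 96 → nu γ (u * 𝐩) = 96 ∨ nu γ (u * 𝐩 * 𝐳) = 96 → u ∈ 𝐙₂ ∨ u * γ 7 ∈ 𝐙₂ ∨ u * γ 8 ∈ 𝐙₂ ∨ u * γ 9 ∈ 𝐙₂ :=
  f.gx.tx (φ := .all 3 40 [] (.imp (.nu (.l 40) 96) (.imp (.or (.nu (.mul (.l 40) (.l 11)) 96) (.nu (.mul (.mul (.l 40) (.l 11)) (.l 12)) 96)) (.fm (.or (.mem 8 (.l 40)) (.or (.mem 8 (.mul (.l 40) (.l 7))) (.or (.mem 8 (.mul (.l 40) (.l 8))) (.mem 8 (.mul (.l 40) (.l 9)))))))))) (by decide +kernel)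

theorem a2 : ∀ u ∈ 𝐐, nu γ u = 96 → ∀ v ∈ 𝐙₂, nu γ (u * (γ 8 * v)) = 96 → ∀ w ∈ 𝐙₂, nu γ (u * (γ 9 * w)) = 96 → u ∈ 𝐖 :=
  f.gx.tx (φ := .all 3 40 [] (.imp (.nu (.l 40) 96) (.all 8 41 [] (.imp (.nu (.mul (.l 40) (.mul (.l 8) (.l 41))) 96) (.all 8 42 [] (.imp (.nu (.mul (.l 40) (.mul (.l 9) (.l 42))) 96) (.fm (.mem 5 (.l 40))))))))) (by decide +kernel)

theorem a3 : ∀ u ∈ 𝐐, nu γ u = 96 → u = 𝐳 ∨ (∃ v ∈ K γ 14, v * u = 𝐩 * v ∧ True) ∨ (∃ v ∈ K γ 14, v * u = 𝐩 * 𝐳 * v ∧ True) :=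
  f.gx.tx (φ := .all 3 40 [] (.imp (.nu (.l 40) 96) (.fm (.or (.eq (.l 40) (.l 12)) (.or (.ex 14 41 [(.l 40, .l 11)] (.tt)) (.ex 14 41 [(.l 40, .mul (.l 11) (.l 12))] (.tt))))))) (by decide +kernel)

theorem nq1 : ∀ u ∈ K γ 16, ∀ v ∈ K γ 16, u ≠ 1 → v ≠ 1 → u ≠ v → ∃ w ∈ 𝐐, w * u * w⁻¹ * u⁻¹ * v * (w * u * w⁻¹ * u⁻¹)⁻¹ * v⁻¹ ∉ 𝐙₁ :=
  f.gf.tr (φ := .all 16 40 [] (.all 16 41 [] (.imp (.not (.one (.l 40))) (.imp (.not (.one (.l 41))) (.imp (.not (.eq (.l 40) (.l 41))) (.ex 3 42 [] (.not (.mem 9 (.mul (.mul (.mul (.mul (.mul (.mul (.l 42) (.l 40)) (.inv (.l 42))) (.inv (.l 40))) (.l 41)) (.inv (.mul (.mul (.mul (.l 42) (.l 40)) (.inv (.l 42))) (.inv (.l 40))))) (.inv (.l 41))))))))))) (by decide +kernel)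

theorem nqw : ∀ u ∈ K γ 16, u ≠ 1 → (∀ v ∈ 𝐐, v * u * v⁻¹ * u⁻¹ ∈ 𝐙₁ → v ∈ 𝐖) ∨ (∀ v ∈ 𝐐, v * u * v⁻¹ * u⁻¹ ∈ 𝐙₁ → v ∈ K γ 6) ∨ (∀ v ∈ 𝐐, v * u * v⁻¹ * u⁻¹ ∈ 𝐙₁ → v ∈ K γ 7) ∨ (∀ v ∈ 𝐐, v * u * v⁻¹ * u⁻¹ ∈ 𝐙₁ → v ∈ K γ 20) ∨ (∀ v ∈ 𝐐, v * u * v⁻¹ * u⁻¹ ∈ 𝐙₁ → v ∈ K γ 21) ∨ (∀ v ∈ 𝐐, v * u * v⁻¹ * u⁻¹ ∈ 𝐙₁ → v ∈ K γ 22) ∨ (∀ v ∈ 𝐐, v * u * v⁻¹ * u⁻¹ ∈ 𝐙₁ → v ∈ K γ 23) :=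
  f.gf.tr (φ := .all 16 40 [] (.imp (.not (.one (.l 40))) (.or (.all 3 41 [] (.imp (.mem 9 (.mul (.mul (.mul (.l 41) (.l 40)) (.inv (.l 41))) (.inv (.l 40)))) (.mem 5 (.l 41)))) (.or (.all 3 41 [] (.imp (.mem 9 (.mul (.mul (.mul (.l 41) (.l 40)) (.inv (.l 41))) (.inv (.l 40)))) (.mem 6 (.l 41)))) (.or (.all 3 41 [] (.imp (.mem 9 (.mul (.mul (.mul (.l 41) (.l 40)) (.inv (.l 41))) (.inv (.l 40)))) (.mem 7 (.l 41)))) (.or (.all 3 41 [] (.imp (.mem 9 (.mul (.mul (.mul (.l 41) (.l 40)) (.inv (.l 41))) (.inv (.l 40)))) (.mem 20 (.l 41)))) (.or (.all 3 41 [] (.imp (.mem 9 (.mul (.mul (.mul (.l 41) (.l 40)) (.inv (.l 41))) (.inv (.l 40)))) (.mem 21 (.l 41)))) (.or (.all 3 41 [] (.imp (.mem 9 (.mul (.mul (.mul (.l 41) (.l 40))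 (.inv (.l 41))) (.inv (.l 40)))) (.mem 22 (.l 41)))) (.all 3 41 [] (.imp (.mem 9 (.mul (.mul (.mul (.l 41) (.l 40)) (.inv (.l 41))) (.inv (.l 40)))) (.mem 23 (.l 41)))))))))))) (by decide +kernel)

theorem y1 : ∀ u ∈ 𝐖, nu γ (𝐜 * u) = 96 → ∀ v ∈ 𝐖, nu γ (γ 5 * v) = 96 → nu γ (𝐜 * u * (γ 5 * v)) = 96 → ∀ w ∈ 𝐖, nu γ (γ 6 * w) = 96 → nu γ (𝐜 * u * (γ 6 * w)) = 96 → ∀ y ∈ 𝐖, nu γ (γ 7 * y) = 96 → nu γ (γ 5 * v * (γ 7 * y)) = 96 → ∃ h ∈ 𝐕, h * (𝐜 * u) = 𝐜 * h ∧ h * (γ 5 * v) = γ 5 * h ∧ h * (γ 6 * w) = γ 6 * h ∧ h * (γ 7 * y) = γ 7 * h ∧ True :=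
  f.gx.tx (φ := .all 5 40 [] (.imp (.nu (.mul (.l 10) (.l 40)) 96) (.all 5 41 [] (.imp (.nu (.mul (.l 5) (.l 41)) 96) (.imp (.nu (.mul (.mul (.l 10) (.l 40)) (.mul (.l 5) (.l 41))) 96) (.all 5 42 [] (.imp (.nu (.mul (.l 6) (.l 42)) 96) (.imp (.nu (.mul (.mul (.l 10) (.l 40)) (.mul (.l 6) (.l 42))) 96) (.all 5 43 [] (.imp (.nu (.mul (.l 7) (.l 43)) 96) (.imp (.nu (.mul (.mul (.l 5) (.l 41)) (.mul (.l 7) (.l 43))) 96) (.fm (.ex 4 44 [(.mul (.l 10) (.l 40), .l 10), (.mul (.l 5) (.l 41), .l 5), (.mul (.l 6) (.l 42), .l 6), (.mul (.l 7) (.l 43), .l 7)] (.tt)))))))))))))) (by decide +kernel)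

theorem q0 : ∀ u ∈ 𝐐, u ∈ 𝐙₁ ∨ (∃ v ∈ K γ 14, v * u * v⁻¹ ∉ 𝐐₀) :=
  f.gf.tr (φ := .all 3 40 [] (.or (.mem 9 (.l 40)) (.ex 14 41 [] (.not (.mem 11 (.mul (.mul (.l 41) (.l 40)) (.inv (.l 41)))))))) (by decide +kernel)

theorem qc : ∀ u ∈ 𝐐, u ∈ 𝐐₀ ∨ 𝐜 * u ∈ 𝐐₀ :=
  f.gf.tr (φ := .all 3 40 [] (.or (.mem 11 (.l 40)) (.mem 11 (.mul (.l 10) (.l 40))))) (by decide +kernel)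

theorem i1 [Finite G] (a : Gr γ φ 𝛕) : ∀ u ∈ 𝐙₃, nu γ (φ * u * φ⁻¹ * u) = 88 ∨ nu γ u = 88 ∨ u ∈ K γ 17 ∨ u ∈ K γ 18 :=
  f.txτ a (ψ := .all 10 40 [] (.or (.nu (.mul (.mul (.mul (.l 25) (.l 40)) (.inv (.l 25))) (.l 40)) 88) (.or (.nu (.l 40) 88) (.fm (.or (.mem 17 (.l 40)) (.mem 18 (.l 40))))))) (by decide +kernel)

theorem i1b : ∀ u ∈ K γ 17, ∀ v ∈ K γ 18, u ∈ 𝐙₂ ∨ v ∈ 𝐙₂ ∨ nu γ (u * v) = 88 :=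
  f.gx.tx (φ := .all 17 40 [] (.all 18 41 [] (.or (.fm (.mem 8 (.l 40))) (.or (.fm (.mem 8 (.l 41))) (.nu (.mul (.l 40) (.l 41)) 88))))) (by decide +kernel)

theorem cu : ∀ u ∈ 𝐔, u * 𝐜 = 𝐜 * u → u * 𝐩 = 𝐩 * u → u * γ 7 = γ 7 * u → u * γ 8 = γ 8 * u → u * γ 9 = γ 9 * u → u * γ 4 = γ 4 * u → u * γ 1 = γ 1 * u → u * (γ 5 * γ 6) = γ 5 * γ 6 * u → u * (γ 2 * γ 3) = γ 2 * γ 3 * u → u = 1 ∨ u = 𝐳 ∨ u = γ 8 * γ 9 ∨ u = γ 8 * γ 9 * 𝐳 :=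
  f.gf.tr (φ := .all 2 40 [(.l 10, .l 10), (.l 11, .l 11), (.l 7, .l 7), (.l 8, .l 8), (.l 9, .l 9), (.l 4, .l 4), (.l 1, .l 1), (.mul (.l 5) (.l 6), .mul (.l 5) (.l 6)), (.mul (.l 2) (.l 3), .mul (.l 2) (.l 3))] (.or (.one (.l 40)) (.or (.eq (.l 40) (.l 12)) (.or (.eq (.l 40) (.mul (.l 8) (.l 9))) (.eq (.l 40) (.mul (.mul (.l 8) (.l 9)) (.l 12))))))) (by decide +kernel)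

theorem cl : ∀ u ∈ 𝐔, u * 𝐜 = 𝐜 * u → u * 𝐩 = 𝐩 * u → u * γ 7 = γ 7 * u → u * γ 8 = γ 8 * u → u * γ 9 = γ 9 * u → u * (γ 4 * γ 5) = γ 4 * γ 5 * u → u * (γ 4 * γ 6) = γ 4 * γ 6 * u → u * (γ 1 * γ 2) = γ 1 * γ 2 * u → u * (γ 1 * γ 3) = γ 1 * γ 3 * u → u = 1 ∨ u = 𝐳 ∨ u = γ 7 * γ 8 * γ 9 ∨ u = γ 7 * γ 8 * γ 9 * 𝐳 :=
  f.gf.tr (φ := .all 2 40 [(.l 10, .l 10), (.l 11, .l 11), (.l 7, .l 7), (.l 8, .l 8), (.l 9, .l 9), (.mul (.l 4) (.l 5), .mul (.l 4) (.l 5)), (.mul (.l 4) (.l 6), .mul (.l 4) (.l 6)), (.mul (.l 1) (.l 2), .mul (.l 1) (.l 2)), (.mul (.l 1) (.l 3), .mul (.l 1) (.l 3))] (.or (.one (.l 40)) (.or (.eq (.l 40) (.l 12)) (.or (.eq (.l 40) (.mul (.mul (.l 7) (.l 8)) (.l 9))) (.eq (.l 40) (.mul (.mul (.mul (.l 7) (.l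 8)) (.l 9)) (.l 12))))))) (by decide +kernel)

theorem ct : ∀ u ∈ 𝐔, u * 𝐜 = 𝐜 * u → u * 𝐩 = 𝐩 * u → u * γ 7 = γ 7 * u → u * γ 4 = γ 4 * u → u * γ 1 = γ 1 * u → u * (γ 8 * γ 9) = γ 8 * γ 9 * u → u * (γ 5 * γ 6) = γ 5 * γ 6 * u → u * (γ 2 * γ 3) = γ 2 * γ 3 * u → u = 1 ∨ u = 𝐳 ∨ u = γ 8 * γ 9 ∨ u = γ 8 * γ 9 * 𝐳 :=
  f.gf.tr (φ := .all 2 40 [(.l 10, .l 10), (.l 11, .l 11), (.l 7, .l 7), (.l 4, .l 4), (.l 1, .l 1), (.mul (.l 8) (.l 9), .mul (.l 8) (.l 9)), (.mul (.l 5) (.l 6), .mul (.l 5) (.l 6)), (.mul (.l 2) (.l 3), .mul (.l 2) (.l 3))] (.or (.one (.l 40)) (.or (.eq (.l 40) (.l 12)) (.or (.eq (.l 40) (.mul (.l 8) (.l 9))) (.eq (.l 40) (.mul (.mul (.l 8) (.l 9)) (.l 12))))))) (by decide +kernel)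

end F0

end Cfsg.Lib.O8S
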