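import Cfsg.Agent.Lib.O8.St
import Cfsg.Agent.Lib.ES.Def

/-!
# S3268: the Steinberg relations of `Ω₈⁺(2)` on numbered letters (see `docs/O8S.md`)
Letters: `1,2,3 = x₀,x₁,x₂` (end nodes), `4,5,6 = b_i = c + x_i`, `7,8,9 = a_i = p - x_i`, `10 = c`, `11 = p`, `12 = z`, `13,…,24` the negatives.
-/

set_option autoImplicit false

namespace Cfsg.Lib.O8S

open Cfsg.Lib.Chev Cfsg.Lib.Chev.RootSys Cfsg.Lib.Orth Subgroup
open scoped commutatorElement

/-- The roots. -/
abbrev Φ4 : Type := Rt (2 * 4) false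

/-- `D₄`. -/
abbrev R4 : RootSys (Fin 4) Φ4 := rootD (n := 4) (by decide)

/-- The letter of a root. -/
def lr (r : Φ4) : ℕ := 1457001669170599507812554182351350821859420301983279868232510693020568728589514845568 / 32 ^ (8 * r.1.1.val + r.1.2.val) % 32

/-- The root of a letter. -/
def rl (c : ℕ) : Φ4 := ([⟨(0, 6), by decide⟩, ⟨(2, 4), by decide⟩, ⟨(2, 3), by decide⟩, ⟨(0, 5), by decide⟩, ⟨(1, 4), by decide⟩, ⟨(1, 3), by decide⟩, ⟨(1, 2), by decide⟩, ⟨(0, 3), by decide⟩, ⟨(0, 4), by decide⟩, ⟨(1, 5), by decide⟩, ⟨(0, 2), by decide⟩, ⟨(0, 1), by decide⟩, ⟨(1, 7), by decide⟩, ⟨(3, 5), by decide⟩, ⟨(4, 5), by decide⟩, ⟨(2, 7), by decide⟩, ⟨(3, 6), by decide⟩, ⟨(4, 6), by decide⟩, ⟨(5, 6), by decide⟩, ⟨(4, 7), by decide⟩, ⟨(3, 7), by decide⟩, ⟨(2, 6), by decide⟩, ⟨(5, 7), by decide⟩, ⟨(6, 7), by decide⟩] : List Φ4).getD (c - 1) ⟨(0, 1), by decide⟩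

/-- The sum of two letters: `0` if it is not a root, `99` for opposite roots. -/
def ad (r s : ℕ) : ℕ := 0x632c5c9112054a1300000000000c0000000000000000158c00f1c340000054a130000c0000000000000911202c063000000304040000000000000000030000170000303018c0000034700204400000000000000c00005c0050400063003400f20009000000000000000030000170804000018c70f0044900000000030000000000013282400f00041630000b0000000000000c00000001300544001c04003018c0002c00000000000030000002854007003410300000630000b0000009170000013280000000240000814500018c0000000011005c0130054000000040008003001400063000000020000172854000000000700143000000500018c063142c305082440700000000000000000000000000002d8c00304040000024407000060000000000000000005c063000000f1c34000000060000000000000305080090f018c000000410008140000000000180000b00000111c000630004003080030000000000000600002c0002034000018c103001430000000000000000180000b0054003003476300005000000000180000000000071000a00043400f018c0001400000000060000000070024013000470f0000063000050000000001800000102400000540002044b00018c000000030b000000710000000000a0020009002c000630000005002c0070024000000001300449000000b00018c000080000b10240000000000000000000000000000000000000000000000000000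 / 128 ^ (25 * r + s) % 128

/-- The action of the diagram symmetries on the letters. -/
def act (σ : Equiv.Perm (Fin 3)) (c : ℕ) : ℕ :=
  if (1 ≤ c ∧ c ≤ 9) ∨ (13 ≤ c ∧ c ≤ 21) then c - (c - 1) % 3 + (σ ⟨(c - 1) % 3, Nat.mod_lt _ (by decide)⟩).val else c

theorem lr_rl : ∀ c < 25, c ≠ 0 → lr (rl c) = c := by decide +kernel
theorem rl_lr : ∀ r, rl (lr r) = r := by decide +kernel
theorem lr_lt : ∀ r, lr r < 25 ∧ lr r ≠ 0 := by decide +kernel
theorem act_big (σ : Equiv.Perm (Fin 3)) {c : ℕ} (h : 22 ≤ c) : act σ c = c := if_neg (by omega)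
theorem act_one (c : ℕ) : act 1 c = c := by
  rw [act]; split_ifs <;> simp only [Equiv.Perm.one_apply]; omega
theorem act_mul' : ∀ σ σ' : Equiv.Perm (Fin 3), ∀ c < 25, act (σ * σ') c = act σ (act σ' c) := by decide +kernel
theorem act_mul (σ σ' : Equiv.Perm (Fin 3)) (c : ℕ) : act (σ * σ') c = act σ (act σ' c) := by
  by_cases h : c < 25
  · exact act_mul' σ σ' c h
  · rw [act_big _ (by omega), act_big σ' (by omega), act_big _ (by omega)]
theorem act_lt : ∀ σ : Equiv.Perm (Fin 3), ∀ c < 25, act σ c < 25 := by decide +kernel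
theorem ad_act : ∀ σ : Equiv.Perm (Fin 3), ∀ r < 25, ∀ s < 25, ad (act σ r) (act σ s) = act σ (ad r s) := by decide +kernel
theorem act_x (σ : Equiv.Perm (Fin 3)) (i : Fin 3) : act σ (1 + i) = 1 + σ i ∧ act σ (4 + i) = 4 + σ i ∧ act σ (7 + i) = 7 + σ i ∧
    act σ (13 + i) = 13 + σ i := by revert σ i; decide +kernel
theorem act_fix (σ : Equiv.Perm (Fin 3)) : act σ 0 = 0 ∧ act σ 10 = 10 ∧ act σ 11 = 11 ∧ act σ 12 = 12 ∧ act σ 22 = 22 :=
  ⟨rfl, rfl, rfl, rfl, rfl⟩

theorem ad_cm : ∀ r s : Φ4, s ≠ r.neg → ad (lr r) (lr s) = 0 ∨ ∃ k : Φ4, ∀ i, k.v i = r.v i + s.v i := by decide +kernel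
theorem ad_add : ∀ r s k : Φ4, (∀ i, k.v i = r.v i + s.v i) → ad (lr r) (lr s) = lr k := by decide +kernel

variable {G G' : Type*} [Group G] [Group G'] {γ : ℕ → G}

/-- The Steinberg relations. -/
structure Rel (γ : ℕ → G) : Prop where
  zero : γ 0 = 1
  sq : ∀ c < 25, γ c * γ c = 1
  cm : ∀ r < 25, ∀ s < 25, ad r s ≠ 99 → ⁅γ r, γ s⁆ = γ (ad r s)

theorem Rel.map (h : Rel γ) (f : G →* G') : Rel fun c => f (γ c) :=
  ⟨by rw [h.zero, map_one], fun c hc => by rw [← map_mul, h.sq c hc, map_one], fun r hr s hs e => by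
    rw [← map_commutatorElement, h.cm r hr s hs e]⟩

theorem Rel.rot (h : Rel γ) (σ : Equiv.Perm (Fin 3)) : Rel fun c => γ (act σ c) :=
  ⟨h.zero, fun c hc => h.sq _ (act_lt σ c hc), fun r hr s hs e => by
    have := ad_act σ r hr s hs
    refine (h.cm _ (act_lt σ r hr) _ (act_lt σ s hs) fun e' => e ?_).trans (congrArg γ this)
    rw [e'] at this
    have h1 := congrArg (act σ⁻¹) this
    rwa [← act_mul, inv_mul_cancel, act_one, act_big _ (by omega), eq_comm] at h1⟩

theorem Rel.congr (h : Rel γ) {γ' : ℕ → G} (e : ∀ c < 25, γ' c = γ c) : Rel γ' :=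
  ⟨(e 0 (by omega)).trans h.zero, fun c hc => by rw [e c hc, h.sq c hc], fun r hr s hs a => by
    rw [e r hr, e s hs, h.cm r hr s hs a, e _ ((by decide +kernel : ∀ r < 25, ∀ s < 25, ad r s ≠ 99 → ad r s < 25) r hr s hs a)]⟩

/-- `Ω₈⁺(2)`. -/
abbrev Om : Type := commutator (O (qPlus 4 (ZMod 2)))

instance simple_Om : IsSimpleGroup Om :=
  have : IsSimpleGroup (commutator (isometryGroup (ZMod 2) (qPlus 4 (ZMod 2)))) := F2.simple_omega_eight
  (commutatorCongr (isoEquiv (qPlus 4 (ZMod 2)))).symm.isSimpleGroup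

theorem card_Om : Nat.card Om = 174182400 :=
  (Nat.card_congr (commutatorCongr (isoEquiv (qPlus 4 (ZMod 2)))).toEquiv).symm.trans F2.card_omega_eight

instance finite_Om : Finite Om := Nat.finite_of_card_ne_zero (by rw [card_Om]; decide)

/-- The Chevalley system of `Ω₈⁺(2)`. -/
noncomputable def SOm : ChevSys R4 (ZMod 2) Om := (exists_omega_D (ZMod 2) (n := 4) (by decide) (by decide)).choose

theorem SOm_grp : SOm.grp = ⊤ := (exists_omega_D (ZMod 2) (n := 4) (by decide) (by decide)).choose_spec.2.1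

theorem Rel.lac (h : Rel γ) {r s k : Φ4} (e : R4.α k = R4.α r + R4.α s) : ⁅γ (lr r), γ (lr s)⁆ = γ (lr k) := by
  have a := ad_add r s k (congrFun ((eucD _).add_iff.1 e))
  rw [h.cm _ (lr_lt r).1 _ (lr_lt s).1 (by have := (lr_lt k).1; omega), a]

theorem Rel.exists_hom (h : Rel γ) : ∃ ψ : Om →* G, ∀ r a, ψ (SOm.x r a) = γ (lr r) ^ a.val := by
  obtain ⟨hF, htop, hM, hT, -⟩ := (exists_omega_D (ZMod 2) (n := 4) (by decide) (by decide)).choose_spec
  have hR := noA1_of_conn (conn_D (n := 4) (by decide) (by decide)) (by decide)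
  have h2 : ∀ r, γ (lr r) * γ (lr r) = 1 := fun r => h.sq _ (lr_lt r).1
  have hy := O8.strongComm_two (repD (n := 4) (by decide) (carJW _)).tab (eucD _).noG2
    (fun r s h => O8.ph_neg r s (pair_D _ r s ▸ h)) (y := fun r => γ (lr r)) (fun r s h1 h2 n => by
      have a := (ad_cm r s h2).resolve_right fun ⟨k, e⟩ => n k ((eucD _).add_iff.2 (funext e))
      have b := h.cm _ (lr_lt r).1 _ (lr_lt s).1 (by omega)
      rwa [a, h.zero, commutatorElement_eq_one_iff_commute] at b)
    fun r s k e => by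
      have a := h.lac e
      have b := h2 k
      have i : ∀ r, (γ (lr r))⁻¹ = γ (lr r) := fun r => inv_eq_of_mul_eq_one_left (h2 r)
      rw [commutatorElement_def, i, i] at a
      rw [← a] at b ⊢
      apply inv_injective
      rw [mul_inv_rev, i, i, eq_comm, inv_eq_iff_mul_eq_one, ← b]
      group
  have hadd : ∀ r (t u : ZMod 2), γ (lr r) ^ (t + u).val = γ (lr r) ^ t.val * γ (lr r) ^ u.val := fun r t u => by
    have z : ∀ a : ZMod 2, a = 0 ∨ a = 1 := by decide
    rcases z t with rfl | rfl <;> rcases z u with rfl | rfl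
    exacts [by simp, by simp, by simp, (pow_zero _).trans (by simpa [ZMod.val_one] using (h2 _).symm)]
  exact hF.exists_hom_of_torus hT hR htop (C' := hF.chevSys hT hR hy hadd) hy hM
    (ChevSys.hMul_of_finite _) fun c _ => by rw [Subsingleton.elim c 1]; exact one_mem _

theorem inj_of_ne {ψ : Om →* G} (h : ∀ r a, ψ (SOm.x r a) = γ (lr r) ^ a.val) (z : γ 12 ≠ 1) : Function.Injective ψ := by
  rw [← MonoidHom.ker_eq_bot_iff]
  refine ψ.normal_ker.eq_bot_or_eq_top.resolve_right fun e => z ?_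
  have := (h (rl 12) 1).symm.trans (MonoidHom.mem_ker.1 (e ▸ mem_top _))
  rwa [ZMod.val_one, pow_one] at this

theorem Rel.exists_chev (h : Rel γ) (z : γ 12 ≠ 1) :
    ∃ C : ChevSys R4 (ZMod 2) G, C.Faithful ∧ ∀ r a, C.x r a = γ (lr r) ^ a.val := by
  obtain ⟨ψ, e⟩ := h.exists_hom
  exact ⟨SOm.map ψ, (exists_omega_D (ZMod 2) (n := 4) (by decide) (by decide)).choose_spec.1.map_of_central SOm_grp
    (((MonoidHom.ker_eq_bot_iff ψ).2 (inj_of_ne e z)).le.trans bot_le), e⟩

theorem R4_α (r : Φ4) (i : Fin 4) : R4.α r i = omD 4 i r.v / if 4 ≤ i.val + 2 then 2 else 1 := rfl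

theorem r2 : ES.R2 R4 (rl 12) 1 where
  ln _ := rfl
  conn := conn_D _ (by decide)
  top k := by
    simp only [RootSys.ht, RootSys.htL_apply, R4_α, Rt.v, map_add, omD_eps 4 _ (Fin.is_lt _)]
    revert k; decide +kernel
  p0 := by rw [pair_D]; decide +kernel
  p1 := by simp only [pair_D]; decide +kernel
  aut := isAut_one
  pos _ h := h
  τ2 _ := rfl
  τo _ := .inl rfl
  sgn := ⟨Equiv.Perm.sign, fun _ _ _ _ => map_mul _ _ _, by simp only [A_D]; decide +kernel⟩
  c3 := by simp only [pair_D]; decide +kernel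

end Cfsg.Lib.O8S
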